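import Mathlib.RingTheory.Spectrum.Prime.Chevalley
import Mathlib.RingTheory.AlgebraicIndependent.TranscendenceBasis
import Mathlib.RingTheory.Nullstellensatz
import Mathlib.RingTheory.RingHom.FiniteType
import Mathlib.RingTheory.Jacobson.Ring
import Mathlib.FieldTheory.IsAlgClosed.Basic

/-!
# Maps with finite fibres between affine varieties of equal dimension are dominant

Points of a finitely generated algebra over an algebraically closed field are its algebra maps to
the field.
-/

set_option autoImplicit false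
set_option linter.style.haveILetI false

namespace CfsgLib.LangChev

open PrimeSpectrum Topology

variable {K : Type*} [Field K] [IsAlgClosed K]

/-- A maximal ideal of a finitely generated algebra is the kernel of a point. -/
theorem exists_point {B : Type*} [CommRing B] [Algebra K B] [Algebra.FiniteType K B]
    (m : Ideal B) [m.IsMaximal] : ∃ ψ : B →ₐ[K] K, RingHom.ker ψ = m := by
  let _ : Field (B ⧸ m) := Ideal.Quotient.field m
  haveI : Algebra.FiniteType K (B ⧸ m) :=
    Algebra.FiniteType.of_surjective (Ideal.Quotient.mkₐ K m) (Ideal.Quotient.mkₐ_surjective K m)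
  haveI : Module.Finite K (B ⧸ m) := finite_of_finite_type_of_isJacobsonRing K (B ⧸ m)
  haveI : Algebra.IsIntegral K (B ⧸ m) := Algebra.IsIntegral.of_finite K (B ⧸ m)
  have hb : Function.Bijective (algebraMap K (B ⧸ m)) :=
    IsAlgClosed.algebraMap_bijective_of_isIntegral
  let e := (AlgEquiv.ofBijective (Algebra.ofId K (B ⧸ m)) hb).symm
  refine ⟨e.toAlgHom.comp (Ideal.Quotient.mkₐ K m), Ideal.ext fun x => ?_⟩
  simp [RingHom.mem_ker, Ideal.Quotient.eq_zero_iff_mem]

/-- Over the generic part of the base, every point lifts along an injective map. -/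
theorem exists_extend {A B : Type*} [CommRing A] [IsDomain A] [CommRing B] [IsDomain B]
    [Algebra K A] [Algebra.FiniteType K A] [Algebra K B] [Algebra.FiniteType K B]
    (f : A →ₐ[K] B) (hf : Function.Injective f) :
    ∃ a : A, a ≠ 0 ∧ ∀ φ : A →ₐ[K] K, φ a ≠ 0 → ∃ ψ : B →ₐ[K] K, ψ.comp f = φ := by
  haveI : IsNoetherianRing A := Algebra.FiniteType.isNoetherianRing K A
  have hft : (f : A →+* B).FiniteType := by
    letI := (f : A →+* B).toAlgebra
    haveI : IsScalarTower K A B := IsScalarTower.of_algebraMap_eq fun x => (f.commutes x).symm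
    exact RingHom.finiteType_algebraMap.2 (Algebra.FiniteType.of_restrictScalars_finiteType K A B)
  have hfp : (f : A →+* B).FinitePresentation := RingHom.FinitePresentation.of_finiteType.1 hft
  obtain ⟨S, hS⟩ := exists_constructibleSetData_iff.mpr (isConstructible_range_comap hfp)
  have hbot : (⟨⊥, Ideal.isPrime_bot⟩ : PrimeSpectrum A) ∈ Set.range (comap (f : A →+* B)) :=
    ⟨⟨⊥, Ideal.isPrime_bot⟩, PrimeSpectrum.ext (Ideal.ext fun x => by
      simpa using (injective_iff_map_eq_zero' f).1 hf x)⟩
  rw [← hS, ConstructibleSetData.toSet, Set.mem_iUnion₂] at hbot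
  obtain ⟨C, hC, hbot⟩ := hbot
  rw [BasicConstructibleSetData.toSet, Set.mem_sdiff, mem_zeroLocus, mem_zeroLocus,
    Set.singleton_subset_iff] at hbot
  refine ⟨C.f, fun h => hbot.2 (by simp [h]), fun φ hφ => ?_⟩
  let pφ : PrimeSpectrum A := ⟨RingHom.ker φ, RingHom.ker_isPrime _⟩
  have hmem : pφ ∈ Set.range (comap (f : A →+* B)) := by
    rw [← hS, ConstructibleSetData.toSet]
    refine Set.mem_iUnion₂.2 ⟨C, hC, ?_⟩
    rw [BasicConstructibleSetData.toSet, Set.mem_sdiff, mem_zeroLocus, mem_zeroLocus,
      Set.singleton_subset_iff]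
    refine ⟨fun x hx => ?_, hφ⟩
    have := hbot.1 hx
    simp only [SetLike.mem_coe, Ideal.mem_bot] at this
    simp [this, pφ]
  obtain ⟨P, hP⟩ := hmem
  obtain ⟨m, hm, hPm⟩ := Ideal.exists_le_maximal P.asIdeal P.isPrime.ne_top
  obtain ⟨ψ, hψ⟩ := exists_point (K := K) m
  refine ⟨ψ, AlgHom.ext fun x => ?_⟩
  have hx : x - algebraMap K A (φ x) ∈ P.asIdeal.comap (f : A →+* B) := by
    have h1 := congrArg PrimeSpectrum.asIdeal hP
    rw [show P.asIdeal.comap (f : A →+* B) = RingHom.ker φ from h1]
    simp [RingHom.mem_ker]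
  have h2 : ψ (f (x - algebraMap K A (φ x))) = 0 := by
    rw [← RingHom.mem_ker, hψ]
    exact hPm hx
  rw [map_sub, map_sub, AlgHom.commutes, AlgHom.commutes, sub_eq_zero] at h2
  simpa using h2

/-- Points separate the zero element. -/
theorem exists_point_ne {B : Type*} [CommRing B] [IsDomain B] [Algebra K B]
    [Algebra.FiniteType K B] {b : B} (hb : b ≠ 0) : ∃ ψ : B →ₐ[K] K, ψ b ≠ 0 := by
  haveI : IsDomain (Localization.Away b) :=
    IsLocalization.isDomain_localization (powers_le_nonZeroDivisors_of_noZeroDivisors hb)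
  haveI : Algebra.FiniteType B (Localization.Away b) :=
    IsLocalization.finiteType_of_monoid_fg (Submonoid.powers b) (Localization.Away b)
  haveI : Algebra.FiniteType K (Localization.Away b) :=
    Algebra.FiniteType.trans ‹Algebra.FiniteType K B› ‹_›
  obtain ⟨m, hm⟩ := Ideal.exists_maximal (Localization.Away b)
  obtain ⟨ψ, -⟩ := exists_point (K := K) m
  refine ⟨ψ.comp (IsScalarTower.toAlgHom K B (Localization.Away b)), fun h => ?_⟩
  have := (IsLocalization.Away.algebraMap_isUnit (S := Localization.Away b) b).map ψ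
  exact this.ne_zero h

/-- An element not algebraic over the algebra of `y` gives an infinite fibre of `y`. -/
theorem isAlgebraic_of_finite_fibres {B κ : Type*} [CommRing B] [IsDomain B] [Algebra K B]
    [Algebra.FiniteType K B] [Finite κ] (y : κ → B)
    (hfin : ∀ ψ₀ : B →ₐ[K] K, {ψ : B →ₐ[K] K | ∀ k, ψ (y k) = ψ₀ (y k)}.Finite) (b : B) :
    IsAlgebraic (Algebra.adjoin K (Set.range y)) b := by
  classical
  by_contra hb
  set S := Algebra.adjoin K (Set.range y) with hS
  haveI : Algebra.FiniteType K S :=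
    ⟨(Subalgebra.fg_top _).2 (Subalgebra.fg_def.2 ⟨_, Set.finite_range y, rfl⟩)⟩
  haveI : Algebra.FiniteType K (Polynomial S) :=
    Algebra.FiniteType.trans ‹Algebra.FiniteType K S› inferInstance
  let f : Polynomial S →ₐ[K] B := (Polynomial.aeval b).restrictScalars K
  have hf : Function.Injective f := transcendental_iff_injective.1 hb
  obtain ⟨a, ha0, ha⟩ := exists_extend f hf
  have hc : (algebraMap S B) a.leadingCoeff ≠ 0 := by
    intro h
    exact ha0 (Polynomial.leadingCoeff_eq_zero.1 (Subtype.ext h))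
  obtain ⟨ψ₀, hψ₀⟩ := exists_point_ne (K := K) hc
  let ρ : S →ₐ[K] K := ψ₀.comp S.val
  set p : Polynomial K := a.map (ρ : S →+* K) with hp
  have hp0 : p ≠ 0 := by
    intro h
    have := congrArg (fun q => Polynomial.coeff q a.natDegree) h
    simp only [hp, Polynomial.coeff_map, Polynomial.coeff_zero] at this
    exact hψ₀ this
  have hfinite := hfin ψ₀
  have hex : ∀ t : {t : K // p.eval t ≠ 0}, ∃ ψ : B →ₐ[K] K,
      (∀ k, ψ (y k) = ψ₀ (y k)) ∧ ψ b = t := by
    rintro ⟨t, ht⟩
    let φ : Polynomial S →ₐ[K] K :=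
      { Polynomial.eval₂RingHom (ρ : S →+* K) t with
        commutes' := fun r => by simp [IsScalarTower.algebraMap_apply K S (Polynomial S)] }
    obtain ⟨ψ, hψ⟩ := ha φ (by
      show Polynomial.eval₂ (ρ : S →+* K) t a ≠ 0
      rwa [← Polynomial.eval_map])
    refine ⟨ψ, fun k => ?_, ?_⟩
    · have := AlgHom.congr_fun hψ (Polynomial.C ⟨y k, Algebra.subset_adjoin ⟨k, rfl⟩⟩)
      simpa [f, φ, ρ] using this
    · have := AlgHom.congr_fun hψ Polynomial.X
      simpa [f, φ] using this
  choose g hg1 hg2 using hex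
  have hinj : Function.Injective g := fun s t h => Subtype.ext (by rw [← hg2, ← hg2, h])
  haveI : Infinite {t : K // p.eval t ≠ 0} := by
    haveI := IsAlgClosed.instInfinite (K := K)
    refine Set.infinite_coe_iff.2 ?_
    have := (p.roots.toFinset.finite_toSet).infinite_compl
    refine this.mono fun t ht => ?_
    simp [Polynomial.mem_roots hp0] at ht; exact ht
  exact hfinite.not_infinite (Set.infinite_of_injective_forall_mem hinj fun t => hg1 t)

/-- **Dominance**: a family with finite fibres has at least as many members as the dimension, and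
with exactly as many its image contains a principal open set. -/
theorem exists_image_open {B κ ι : Type*} [CommRing B] [IsDomain B] [Algebra K B]
    [Algebra.FiniteType K B] [Finite κ] [Finite ι] (u : ι → B) (hu : IsTranscendenceBasis K u)
    (y : κ → B) (hcard : Nat.card κ ≤ Nat.card ι)
    (hfin : ∀ ψ₀ : B →ₐ[K] K, {ψ : B →ₐ[K] K | ∀ k, ψ (y k) = ψ₀ (y k)}.Finite) :
    Nat.card κ = Nat.card ι ∧
      ∃ e : MvPolynomial κ K, e ≠ 0 ∧ ∀ v : κ → K, MvPolynomial.eval v e ≠ 0 →
        ∃ ψ : B →ₐ[K] K, ∀ k, ψ (y k) = v k := by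
  haveI : Algebra.IsAlgebraic (Algebra.adjoin K (Set.range y)) B :=
    ⟨isAlgebraic_of_finite_fibres y hfin⟩
  obtain ⟨t, hty, ht⟩ := exists_isTranscendenceBasis_subset (R := K) (Set.range y)
  have htc : Nat.card t = Nat.card ι := by
    have := congrArg Cardinal.toNat (hu.lift_cardinalMk_eq ht)
    simpa [Nat.card, Cardinal.toNat_lift] using this.symm
  have hle : Nat.card (Set.range y) ≤ Nat.card κ := Finite.card_range_le y
  have htle : Nat.card t ≤ Nat.card (Set.range y) := Nat.card_mono (Set.finite_range y) hty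
  have hk : Nat.card κ = Nat.card ι := by omega
  refine ⟨hk, ?_⟩
  have hteq : t = Set.range y :=
    Set.eq_of_subset_of_ncard_le hty (by
      rw [← Nat.card_coe_set_eq, ← Nat.card_coe_set_eq]; omega) (Set.finite_range y)
  subst hteq
  have hyinj : Function.Injective y := by
    have hb := (Nat.bijective_iff_surjective_and_card (Set.rangeFactorization y)).2
      ⟨Set.rangeFactorization_surjective, by omega⟩
    intro a b h
    exact hb.1 (Subtype.ext h)
  have hyi : AlgebraicIndependent K y := (algebraicIndependent_subtype_range hyinj).1 ht.1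
  obtain ⟨e, he0, he⟩ := exists_extend (MvPolynomial.aeval y : MvPolynomial κ K →ₐ[K] B) hyi
  refine ⟨e, he0, fun v hv => ?_⟩
  obtain ⟨ψ, hψ⟩ := he (MvPolynomial.aeval v) (by
    rwa [MvPolynomial.aeval_def, MvPolynomial.eval₂_eq_eval_map, Algebra.algebraMap_self,
      MvPolynomial.map_id])
  refine ⟨ψ, fun k => ?_⟩
  have := AlgHom.congr_fun hψ (MvPolynomial.X k)
  simpa using this

end CfsgLib.LangChev
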