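import Cfsg.Agent.LangChev.Fibres
import Cfsg.Agent.LangChev.Dominant

/-!
# Lang's theorem for Chevalley groups

Over an algebraically closed field of characteristic `p`, every element of the group is
`g⁻¹ σ(g)` for the entrywise `p ^ f`-th power map `σ`.
-/

set_option autoImplicit false
set_option linter.style.haveILetI false

namespace CfsgLib.LangChev

open Cfsg.Lie CfsgLib.Chevalley CfsgLib.ChevTorus
open scoped MatrixGroups

variable {D : ChevalleyDatum} {C : Weyl.Cert D.rank} {M : CoxeterMatrix (Fin D.rank)}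
  {T : Weyl.RootTable} {K : Type*} [Field K] [IsAlgClosed K]

theorem map_mem_group (hD : Good D) {F F' : Type*} [Field F] [Field F'] (φ : F →+* F')
    {g : GL D.Idx F} (hg : g ∈ D.group F) :
    Matrix.GeneralLinearGroup.map φ g ∈ D.group F' := by
  rw [group_eq_closure hD] at hg
  suffices H : Subgroup.closure _ ≤ (D.group F').comap (Matrix.GeneralLinearGroup.map φ) from H hg
  rw [Subgroup.closure_le]
  rintro _ ⟨r, t, rfl⟩
  show Matrix.GeneralLinearGroup.map φ (X hD r t) ∈ D.group F'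
  rw [X_map]
  exact X_mem_group _ _ _

theorem natCard_par (n : ℕ) : Nat.card (Par D n) = n + (half D + D.rank) := by
  simp [Nat.card_sum]

/-- For every `h`, the elements `g⁻¹ h σ(g)` fill an open part of the big cell. -/
theorem exists_open (hW : GoodWeyl D) (h : Weyl.RootGood C M T) (hdet : (cartanMat D).det ≠ 0)
    (p f : ℕ) [Fact p.Prime] [CharP K p] (hf : 1 ≤ f) {h₀ : GL D.Idx K} (hh₀ : h₀ ∈ D.group K) :
    ∃ w : M.Group, M.toCoxeterSystem.length w = half D ∧
      ∃ e : MvPolynomial (Par D (redWord (M := M) w).length) K, e ≠ 0 ∧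
        ∀ v, MvPolynomial.eval v e ≠ 0 → ∀ c : Fin D.rank → Kˣ, (∀ k, v (tp k) = c k) →
          ∃ g ∈ D.group K, g⁻¹ * h₀ * frobGL K p f g = cellR hW (redWord w) v c := by
  classical
  let P := MvPolynomial (Par D (half D)) K
  let L := FractionRing P
  haveI : CharP L p := charP_of_injective_algebraMap (algebraMap K L).injective p
  let x : Par D (half D) → L := fun a => algebraMap P L (MvPolynomial.X a)
  have hx0 : ∀ a, x a ≠ 0 := fun a =>
    (map_ne_zero_iff _ (IsFractionRing.injective P L)).2 (MvPolynomial.X_ne_zero a)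
  let cx : Fin D.rank → Lˣ := fun k => Units.mk0 (x (tp k)) (hx0 _)
  let hL : GL D.Idx L := Matrix.GeneralLinearGroup.map (algebraMap K L) h₀
  let gL : GL D.Idx L := bigR hW x cx
  have hgrp : gL⁻¹ * hL * frobGL L p f gL ∈ D.group L :=
    mul_mem (mul_mem (inv_mem (bigR_mem_group hW x cx)) (map_mem_group hW.good _ hh₀))
      (map_mem_group hW.good _ (bigR_mem_group hW x cx))
  obtain ⟨w, y, c, hyc, heq⟩ := exists_cellR hW h hgrp
  let gens : Set L := Set.range x ∪ Set.range (fun k => (x (tp k))⁻¹) ∪ Set.range y ∪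
    Set.range (fun k => ((c k)⁻¹ : Lˣ).val)
  let B := Algebra.adjoin K gens
  haveI : Algebra.FiniteType K B :=
    ⟨(Subalgebra.fg_top _).2 (Subalgebra.fg_def.2 ⟨gens,
      ((((Set.finite_range _).union (Set.finite_range _)).union (Set.finite_range _)).union
        (Set.finite_range _)), rfl⟩)⟩
  haveI : CharP B p := charP_of_injective_algebraMap (algebraMap K B).injective p
  have hxB : ∀ a, x a ∈ B := fun a => Algebra.subset_adjoin (Or.inl (Or.inl (Or.inl ⟨a, rfl⟩)))
  have hxiB : ∀ k, (x (tp k))⁻¹ ∈ B := fun k =>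
    Algebra.subset_adjoin (Or.inl (Or.inl (Or.inr ⟨k, rfl⟩)))
  have hyB : ∀ a, y a ∈ B := fun a => Algebra.subset_adjoin (Or.inl (Or.inr ⟨a, rfl⟩))
  have hciB : ∀ k, ((c k)⁻¹ : Lˣ).val ∈ B := fun k => Algebra.subset_adjoin (Or.inr ⟨k, rfl⟩)
  let xB : Par D (half D) → B := fun a => ⟨x a, hxB a⟩
  let yB : Par D (redWord (M := M) w).length → B := fun a => ⟨y a, hyB a⟩
  let cxB : Fin D.rank → Bˣ := fun k =>
    { val := xB (tp k)
      inv := ⟨_, hxiB k⟩
      val_inv := Subtype.ext (mul_inv_cancel₀ (hx0 _))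
      inv_val := Subtype.ext (inv_mul_cancel₀ (hx0 _)) }
  let cyB : Fin D.rank → Bˣ := fun k =>
    { val := yB (tp k)
      inv := ⟨_, hciB k⟩
      val_inv := Subtype.ext (by show y (tp k) * _ = 1; rw [hyc, Units.mul_inv])
      inv_val := Subtype.ext (by show _ * y (tp k) = 1; rw [hyc, Units.inv_mul]) }
  let vB : B →+* L := B.val.toRingHom
  let hB : GL D.Idx B := Matrix.GeneralLinearGroup.map (algebraMap K B) h₀
  have heqB : (bigR hW xB cxB)⁻¹ * hB * frobGL B p f (bigR hW xB cxB) =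
      cellR hW (redWord w) yB cyB := by
    have hinj : Function.Injective (Matrix.GeneralLinearGroup.map (n := D.Idx) vB) := by
      intro a b e
      refine Units.ext (Matrix.map_injective (f := vB) Subtype.val_injective ?_)
      exact congrArg Units.val e
    apply hinj
    have e1 : (Matrix.GeneralLinearGroup.map vB) (bigR hW xB cxB) = gL := by
      rw [bigR_map]
      congr 1
    have e2 : (Matrix.GeneralLinearGroup.map vB) hB = hL := rfl
    rw [map_mul, map_mul, map_inv, map_frobGL, e1, e2, heq, cellR_map]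
    congr 1
    funext k
    exact Units.ext (hyc k).symm
  -- evaluation at a point
  have hev : ∀ ψ : B →ₐ[K] K,
      (bigR hW (ψ ∘ xB) fun k => Units.map (ψ : B →* K) (cxB k))⁻¹ * h₀ *
        frobGL K p f (bigR hW (ψ ∘ xB) fun k => Units.map (ψ : B →* K) (cxB k)) =
      cellR hW (redWord w) (ψ ∘ yB) fun k => Units.map (ψ : B →* K) (cyB k) := by
    intro ψ
    have e := congrArg (Matrix.GeneralLinearGroup.map (ψ : B →+* K)) heqB
    rw [map_mul, map_mul, map_inv, map_frobGL, bigR_map, cellR_map] at e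
    have e3 : Matrix.GeneralLinearGroup.map (ψ : B →+* K) hB = h₀ :=
      Units.ext (Matrix.ext fun i j => ψ.commutes _)
    rw [e3] at e
    exact e
  -- finite fibres
  have hfin : ∀ ψ₀ : B →ₐ[K] K, {ψ : B →ₐ[K] K | ∀ a, ψ (yB a) = ψ₀ (yB a)}.Finite := by
    intro ψ₀
    let g₀ := bigR hW (ψ₀ ∘ xB) fun k => Units.map (ψ₀ : B →* K) (cxB k)
    refine Set.Finite.of_finite_image (f := fun ψ : B →ₐ[K] K => fun a => ψ (xB a)) ?_ ?_
    · have hT : {g : GL D.Idx K | frobGL K p f (g * g₀⁻¹) = h₀⁻¹ * (g * g₀⁻¹) * h₀}.Finite := by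
        refine Set.Finite.of_finite_image
          (f := fun g : GL D.Idx K => ((g * g₀⁻¹ : GL D.Idx K) : Matrix D.Idx D.Idx K))
          ((finite_twisted_fixed p f hf h₀).subset ?_) ?_
        · rintro _ ⟨g, hg, rfl⟩
          exact congrArg Units.val hg
        · intro a _ b _ e
          exact mul_right_cancel (Units.ext e)
      refine (hT.biUnion fun g _ => finite_bigR_fibre hW hdet g).subset ?_
      rintro _ ⟨ψ, hψ, rfl⟩
      refine Set.mem_biUnion (x := bigR hW (ψ ∘ xB) fun k => Units.map (ψ : B →* K) (cxB k)) ?_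
        ⟨fun k => Units.map (ψ : B →* K) (cxB k), fun k => rfl, rfl⟩
      show frobGL K p f _ = _
      have h1 := hev ψ
      rw [show ψ ∘ yB = ψ₀ ∘ yB from funext hψ, show (fun k => Units.map (ψ : B →* K) (cyB k)) =
        fun k => Units.map (ψ₀ : B →* K) (cyB k) from funext fun k => Units.ext (hψ (tp k)),
        ← hev ψ₀] at h1
      set g := bigR hW (ψ ∘ xB) fun k => Units.map (ψ : B →* K) (cxB k)
      rw [mul_assoc, inv_mul_eq_iff_eq_mul] at h1
      have h2 : frobGL K p f g = h₀⁻¹ * (g * (g₀⁻¹ * h₀ * frobGL K p f g₀)) := by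
        rw [← h1, inv_mul_cancel_left]
      rw [map_mul, map_inv, h2]
      group
    · intro ψ hψ ψ' hψ' e
      refine AlgHom.ext fun b => ?_
      obtain ⟨b, hb⟩ := b
      induction hb using Algebra.adjoin_induction with
      | mem z hz =>
        rcases hz with ((⟨a, rfl⟩ | ⟨k, rfl⟩) | ⟨a, rfl⟩) | ⟨k, rfl⟩
        · exact congrFun e a
        · have e1 : Units.map (ψ : B →* K) (cxB k) = Units.map (ψ' : B →* K) (cxB k) :=
            Units.ext (congrFun e (tp k))
          exact congrArg (fun u : Kˣ => ((u⁻¹ : Kˣ) : K)) e1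
        · exact (hψ a).trans (hψ' a).symm
        · have e1 : Units.map (ψ : B →* K) (cyB k) = Units.map (ψ' : B →* K) (cyB k) :=
            Units.ext ((hψ (tp k)).trans (hψ' (tp k)).symm)
          exact congrArg (fun u : Kˣ => ((u⁻¹ : Kˣ) : K)) e1
      | algebraMap r => exact (ψ.commutes r).trans (ψ'.commutes r).symm
      | add u v hu hv hu' hv' =>
        exact (map_add ψ ⟨u, hu⟩ ⟨v, hv⟩).trans
          ((congrArg₂ (· + ·) hu' hv').trans (map_add ψ' ⟨u, hu⟩ ⟨v, hv⟩).symm)
      | mul u v hu hv hu' hv' =>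
        exact (map_mul ψ ⟨u, hu⟩ ⟨v, hv⟩).trans
          ((congrArg₂ (· * ·) hu' hv').trans (map_mul ψ' ⟨u, hu⟩ ⟨v, hv⟩).symm)
  -- the coordinates form a transcendence basis
  haveI : Algebra.IsAlgebraic P L := IsLocalization.isAlgebraic L (nonZeroDivisors P)
  have hbasis : IsTranscendenceBasis K x :=
    (IsTranscendenceBasis.mvPolynomial (Par D (half D)) K).algebraMap_comp (A := L)
  have hbasisB : IsTranscendenceBasis K xB := by
    have hxi : AlgebraicIndependent K xB := AlgebraicIndependent.of_comp B.val hbasis.1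
    refine ⟨hxi, fun s hs hsub => ?_⟩
    have h1 : AlgebraicIndependent K (fun z : s => ((z : B) : L)) :=
      hs.map' (f := B.val) Subtype.val_injective
    have h2 : AlgebraicIndependent K ((↑) : Subtype.val '' s → L) := h1.to_subtype_range' (by
      ext; simp)
    have h3 := hbasis.2 (Subtype.val '' s) h2 (by
      rintro _ ⟨a, rfl⟩; exact ⟨xB a, hsub ⟨a, rfl⟩, rfl⟩)
    refine le_antisymm hsub fun z hz => ?_
    obtain ⟨a, ha⟩ : (z : L) ∈ Set.range x := h3 ▸ ⟨z, hz, rfl⟩
    exact ⟨a, Subtype.ext ha⟩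
  have hlen : (redWord (M := M) w).length ≤ half D := by
    rw [length_redWord]; exact length_le_half hW h w
  obtain ⟨hcard, e, he0, he⟩ := exists_image_open (K := K) xB hbasisB yB
    (by rw [natCard_par, natCard_par]; omega) hfin
  rw [natCard_par, natCard_par] at hcard
  refine ⟨w, by rw [← length_redWord w]; omega, e, he0, fun v hv c' hc' => ?_⟩
  obtain ⟨ψ, hψ⟩ := he v hv
  refine ⟨_, bigR_mem_group hW _ _, (hev ψ).trans ?_⟩
  rw [show ψ ∘ yB = v from funext hψ, show (fun k => Units.map (ψ : B →* K) (cyB k)) = c' from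
    funext fun k => Units.ext ((hψ (tp k)).trans (hc' k))]

/-- **Lang's theorem.** -/
theorem lang (hW : GoodWeyl D) (h : Weyl.RootGood C M T) (hdet : (cartanMat D).det ≠ 0)
    (p f : ℕ) [Fact p.Prime] [CharP K p] (hf : 1 ≤ f) {h₀ : GL D.Idx K} (hh₀ : h₀ ∈ D.group K) :
    ∃ g ∈ D.group K, g⁻¹ * frobGL K p f g = h₀ := by
  classical
  obtain ⟨w₁, hw₁, e₁, he₁, H₁⟩ := exists_open hW h hdet p f hf (one_mem (D.group K))
  obtain ⟨w₂, hw₂, e₂, he₂, H₂⟩ := exists_open hW h hdet p f hf hh₀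
  obtain rfl := eq_of_length_eq_half hW h hw₁ hw₂
  let n := (redWord (M := M) w₁).length
  let e : MvPolynomial (Par D n) K := e₁ * e₂ * ∏ k : Fin D.rank, MvPolynomial.X (tp k)
  have he : e ≠ 0 := mul_ne_zero (mul_ne_zero he₁ he₂)
    (Finset.prod_ne_zero_iff.2 fun k _ => MvPolynomial.X_ne_zero _)
  obtain ⟨v, hv⟩ : ∃ v, MvPolynomial.eval v e ≠ 0 := by
    by_contra hall
    push Not at hall
    exact he (MvPolynomial.funext fun v => by rw [hall v, map_zero])
  simp only [e, map_mul, map_prod, MvPolynomial.eval_X, mul_ne_zero_iff,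
    Finset.prod_ne_zero_iff, Finset.mem_univ, forall_const] at hv
  obtain ⟨⟨hv₁, hv₂⟩, hvt⟩ := hv
  obtain ⟨g₁, hg₁, E₁⟩ := H₁ v hv₁ (fun k => Units.mk0 _ (hvt k)) fun k => rfl
  obtain ⟨g₂, hg₂, E₂⟩ := H₂ v hv₂ (fun k => Units.mk0 _ (hvt k)) fun k => rfl
  refine ⟨g₁ * g₂⁻¹, mul_mem hg₁ (inv_mem hg₂), ?_⟩
  have E := E₁.trans E₂.symm
  rw [map_mul, map_inv]
  rw [show h₀ = g₂ * (g₂⁻¹ * h₀ * frobGL K p f g₂) * (frobGL K p f g₂)⁻¹ by group, ← E]
  group

end CfsgLib.LangChev
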