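import Cfsg.Agent.LangChev.Param
import Cfsg.Agent.ChevTorus.Order
import Cfsg.Agent.Lang.Basic

/-!
# Finite fibres
-/

set_option autoImplicit false
set_option linter.style.haveILetI false

namespace CfsgLib.LangChev

open Cfsg.Lie CfsgLib.Chevalley CfsgLib.ChevTorus
open scoped MatrixGroups

variable {D : ChevalleyDatum}

/-- The Frobenius on matrices. -/
def frobGL {ι : Type*} [Fintype ι] [DecidableEq ι] (R : Type*) [CommRing R] (p f : ℕ) [ExpChar R p] :
    GL ι R →* GL ι R :=
  Matrix.GeneralLinearGroup.map (iterateFrobenius R p f)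

theorem frobGL_apply {ι : Type*} [Fintype ι] [DecidableEq ι] {R : Type*} [CommRing R] (p f : ℕ)
    [ExpChar R p] (g : GL ι R) (i j : ι) :
    (frobGL R p f g : Matrix ι ι R) i j = (g : Matrix ι ι R) i j ^ p ^ f := rfl

theorem map_frobGL {ι : Type*} [Fintype ι] [DecidableEq ι] {R S : Type*} [CommRing R] [CommRing S]
    (φ : R →+* S) (p f : ℕ) [ExpChar R p] [ExpChar S p] (g : GL ι R) :
    Matrix.GeneralLinearGroup.map φ (frobGL R p f g) =
      frobGL S p f (Matrix.GeneralLinearGroup.map φ g) := by
  refine Units.ext (Matrix.ext fun i j => ?_)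
  exact map_pow φ _ _

/-- Only finitely many matrices have a prescribed conjugate as their Frobenius image. -/
theorem finite_twisted_fixed {ι : Type*} [Fintype ι] [DecidableEq ι] {K : Type*} [Field K]
    [IsAlgClosed K] (p f : ℕ) [Fact p.Prime] [CharP K p] (hf : 1 ≤ f) (h : GL ι K) :
    {s : Matrix ι ι K | s.map (iterateFrobenius K p f) =
      (↑h⁻¹ : Matrix ι ι K) * s * (h : Matrix ι ι K)}.Finite := by
  classical
  let φ : Matrix ι ι K →ₛₗ[iterateFrobenius K p f] Matrix ι ι K :=
    { toFun := fun s => (h : Matrix ι ι K) * s.map (iterateFrobenius K p f) * (↑h⁻¹ : Matrix ι ι K)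
      map_add' := fun a b => by
        rw [Matrix.map_add _ (map_add _), mul_add, add_mul]
      map_smul' := fun c a => by
        rw [show (c • a).map (iterateFrobenius K p f) =
            iterateFrobenius K p f c • a.map (iterateFrobenius K p f) from
          Matrix.ext fun i j => by simp [mul_pow, iterateFrobenius_def], Matrix.mul_smul, Matrix.smul_mul] }
  have hφa : ∀ s, φ s = (h : Matrix ι ι K) * s.map (iterateFrobenius K p f) *
    (↑h⁻¹ : Matrix ι ι K) := fun s => rfl
  have hinj : Function.Injective φ := by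
    intro a b e
    rw [hφa, hφa] at e
    have e' := congrArg (fun m => (↑h⁻¹ : Matrix ι ι K) * m * (h : Matrix ι ι K)) e
    simp only [← mul_assoc, Units.inv_mul, one_mul] at e'
    simp only [mul_assoc, Units.inv_mul, mul_one] at e'
    exact Matrix.map_injective (iterateFrobenius K p f).injective e'
  have hspan := Lang.span_fixed_eq_top hf φ hinj
  obtain ⟨b, hbsub, hbspan, hli⟩ := exists_linearIndependent K {v | φ v = v}
  let bas := Module.Basis.mk hli (by rw [Subtype.range_coe, hbspan, hspan])
  haveI : Fintype b := FiniteDimensional.fintypeBasisIndex bas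
  have hroots : {t : K | t ^ p ^ f = t}.Finite := by
    have h2 := Lang.two_le_pow (p := p) hf
    refine (Polynomial.finite_setOfPred_isRoot
      (p := (Polynomial.X : Polynomial K) ^ p ^ f - Polynomial.X) ?_).subset fun t ht => ?_
    · exact Polynomial.monic_X_pow_sub (n := p ^ f)
        (by rw [Polynomial.degree_X]; exact_mod_cast h2) |>.ne_zero
    · simpa [Polynomial.IsRoot, sub_eq_zero] using ht
  refine ((Set.Finite.pi' fun _ : b => hroots).image
    fun a : b → K => ∑ i : b, a i • (i : Matrix ι ι K)).subset fun s hs => ?_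
  have hs' : φ s = s := by
    rw [hφa, hs]
    simp [← mul_assoc]
  refine ⟨fun i => bas.repr s i, fun i => ?_, ?_⟩
  · have h1 := bas.sum_repr s
    have h2 : φ s = ∑ j, (bas.repr s j) ^ p ^ f • (j : Matrix ι ι K) := by
      conv_lhs => rw [← h1]
      rw [map_sum]
      refine Finset.sum_congr rfl fun j _ => ?_
      rw [LinearMap.map_smulₛₗ, iterateFrobenius_def, Module.Basis.coe_mk]
      congr 1
      exact hbsub j.2
    have h3 : bas.repr (φ s) i = bas.repr s i ^ p ^ f := by
      rw [h2, show (∑ j, (bas.repr s j) ^ p ^ f • (j : Matrix ι ι K)) =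
        ∑ j, (bas.repr s j) ^ p ^ f • bas j by simp [bas]]
      rw [Module.Basis.repr_sum_self]
    rw [hs'] at h3
    exact h3.symm
  · conv_rhs => rw [← bas.sum_repr s]
    simp [bas]

/-- A monomial map with nonzero determinant has a finite kernel over a field. -/
theorem finite_ker_monAct {ι : Type*} [Fintype ι] [DecidableEq ι] {F : Type*} [Field F]
    (A : Matrix ι ι ℤ) (hA : A.det ≠ 0) : {c : ι → Fˣ | monAct A c = 1}.Finite := by
  have hn : 0 < A.det.natAbs := Int.natAbs_pos.2 hA
  haveI := NeZero.of_pos hn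
  have hroots : {u : Fˣ | u ^ A.det.natAbs = 1}.Finite :=
    Set.finite_coe_iff.1 (show Finite {u : Fˣ // u ∈ rootsOfUnity A.det.natAbs F} from inferInstance)
  refine (Set.Finite.pi' fun _ : ι => hroots).subset fun c hc i => ?_
  have h1 : monAct (A * A.adjugate) c = 1 := by rw [monAct_mul, hc, map_one]
  rw [Matrix.mul_adjugate] at h1
  have h2 := congrFun h1 i
  simp only [monAct, MonoidHom.coe_mk, OneHom.coe_mk, Pi.one_apply] at h2
  rw [Finset.prod_eq_single i (fun k _ hk => by simp [Matrix.one_apply_ne hk])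
    (by simp)] at h2
  simp only [Matrix.smul_apply, Matrix.one_apply_eq, smul_eq_mul, mul_one] at h2
  show c i ^ A.det.natAbs = 1
  rcases Int.natAbs_eq A.det with e | e <;> rw [e] at h2
  · simpa using h2
  · simpa using h2

variable {K : Type*} [Field K]

/-- The parametrisation `U⁻ U H` has finite fibres. -/
theorem finite_bigR_fibre (hW : GoodWeyl D) (hdet : (cartanMat D).det ≠ 0) (g : GL D.Idx K) :
    {v : Par D (half D) → K | ∃ c : Fin D.rank → Kˣ,
      (∀ k, v (tp k) = c k) ∧ bigR hW v c = g}.Finite := by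
  rcases Set.eq_empty_or_nonempty {v : Par D (half D) → K | ∃ c : Fin D.rank → Kˣ,
    (∀ k, v (tp k) = c k) ∧ bigR hW v c = g} with he | ⟨v₀, c₀, hv₀, e₀⟩
  · rw [he]; exact Set.finite_empty
  refine ((finite_ker_monAct (F := K) (cartanMat D) hdet).image fun d =>
    Sum.elim (fun j => v₀ (Sum.inl j))
      (Sum.elim (fun j => v₀ (Sum.inr (Sum.inl j))) fun k => ((d k * c₀ k : Kˣ) : K))).subset ?_
  rintro v ⟨c, hv, e⟩
  have e' := e.trans e₀.symm
  simp only [bigR] at e'
  have hB : ∀ (t : Fin (half D) → K) (d : Fin D.rank → Kˣ),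
      sideR hW.good false t * torR D d ∈ D.borelSubgroup K := fun t d => by
    refine mul_mem (pos_le_borel D ?_) (diag_le_borel D ?_)
    · rw [posUnipotent_eq hW.good]; exact sideR_mem _ _ _
    · rw [torR_eq_torC, diagonalSubgroup_eq_range hW]; exact ⟨d, rfl⟩
  have h1 : (sideR hW.good true (fun j => v₀ (Sum.inl j)))⁻¹ *
      sideR hW.good true (fun j => v (Sum.inl j)) ∈
      D.borelSubgroup K ⊓ D.negUnipotent K := by
    refine Subgroup.mem_inf.2 ⟨?_, ?_⟩
    · have := mul_mem (hB (fun j => v₀ (Sum.inr (Sum.inl j))) c₀)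
        (inv_mem (hB (fun j => v (Sum.inr (Sum.inl j))) c))
      convert this using 1
      rw [eq_mul_inv_iff_mul_eq, mul_assoc, ← mul_assoc (sideR hW.good true fun j => v (Sum.inl j)), e']
      group
    · rw [negUnipotent_eq hW.good]
      exact mul_mem (inv_mem (sideR_mem _ _ _)) (sideR_mem _ _ _)
  rw [borel_inf_neg hW, Subgroup.mem_bot, inv_mul_eq_one] at h1
  have ha := sideR_injective hW.toGoodUni true h1.symm
  rw [← h1, mul_assoc, mul_assoc, mul_left_cancel_iff] at e'
  have h2 : (sideR hW.good false (fun j => v₀ (Sum.inr (Sum.inl j))))⁻¹ *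
      sideR hW.good false (fun j => v (Sum.inr (Sum.inl j))) ∈
      D.posUnipotent K ⊓ D.diagonalSubgroup K := by
    refine Subgroup.mem_inf.2 ⟨?_, ?_⟩
    · rw [posUnipotent_eq hW.good]
      exact mul_mem (inv_mem (sideR_mem _ _ _)) (sideR_mem _ _ _)
    · have : torR D c₀ * (torR D c)⁻¹ ∈ D.diagonalSubgroup K := by
        rw [torR_eq_torC, torR_eq_torC, diagonalSubgroup_eq_range hW]
        exact mul_mem ⟨c₀, rfl⟩ (inv_mem ⟨c, rfl⟩)
      convert this using 1
      rw [eq_mul_inv_iff_mul_eq, mul_assoc, e']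
      group
  rw [pos_inf_diag hW, Subgroup.mem_bot, inv_mul_eq_one] at h2
  have hb := sideR_injective hW.toGoodUni false h2.symm
  rw [← h2, mul_left_cancel_iff, torR_eq_torC, torR_eq_torC] at e'
  refine ⟨fun k => c k * (c₀ k)⁻¹, ?_, funext fun a => ?_⟩
  · show monAct (cartanMat D) (c * c₀⁻¹) = 1
    rw [← torC_eq_one_iff (F := K) hW]
    show torHom D K (c * c₀⁻¹) = 1
    rw [map_mul, map_inv, mul_inv_eq_one]
    exact e'
  · rcases a with a | a | a
    · exact (congrFun ha a).symm
    · exact (congrFun hb a).symm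
    · simp [hv]

end CfsgLib.LangChev
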