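import Cfsg.Agent.Chevalley.Bruhat
import Cfsg.Agent.ChevTorus.Scaling

/-!
# Parametrisations of the big cell over a commutative ring
-/

set_option autoImplicit false

namespace CfsgLib.LangChev

open Cfsg.Lie CfsgLib.Chevalley CfsgLib.ChevTorus
open scoped MatrixGroups

variable {D : ChevalleyDatum} {R S : Type*} [CommRing R] [CommRing S]

/-- The characters of the torus over a ring. -/
def valR (c : Fin D.rank → Rˣ) (a : D.Idx) : Rˣ := ∏ k : Fin D.rank, c k ^ wt D k a

/-- The torus over a ring. -/
def torR (D : ChevalleyDatum) (c : Fin D.rank → Rˣ) : GL D.Idx R :=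
  Units.map (Matrix.diagonalRingHom D.Idx R : (D.Idx → R) →* Matrix D.Idx D.Idx R)
    (MulEquiv.piUnits.symm (valR c))

theorem coe_torR (c : Fin D.rank → Rˣ) :
    ((torR D c : GL D.Idx R) : Matrix D.Idx D.Idx R) =
      Matrix.diagonal fun a => (valR c a : R) := rfl

theorem torR_map (f : R →+* S) (c : Fin D.rank → Rˣ) :
    Matrix.GeneralLinearGroup.map f (torR D c) = torR D fun k => Units.map (f : R →* S) (c k) := by
  refine Units.ext ?_
  rw [coe_torR]
  show (torR D c : Matrix D.Idx D.Idx R).map f = _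
  rw [coe_torR, Matrix.diagonal_map (map_zero f)]
  congr 1
  funext a
  simp only [Function.comp_apply, valR]
  rw [← map_prod_units f]
where
  map_prod_units (f : R →+* S) {ι : Type} [Fintype ι] {c : ι → Rˣ} {e : ι → ℤ} :
      f ((∏ k, c k ^ e k : Rˣ) : R) = ((∏ k, Units.map (f : R →* S) (c k) ^ e k : Sˣ) : S) := by
    simp only [← map_zpow, ← map_prod]
    rfl

theorem torR_eq_torC {F : Type*} [Field F] (c : Fin D.rank → Fˣ) : torR D c = torC D c :=
  Units.ext (by rw [coe_torR, coe_torC]; rfl)

/-- The ordered product over one side of the roots. -/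
noncomputable def sideR (hD : Good D) (b : Bool) (t : Fin (half D) → R) : GL D.Idx R :=
  (List.ofFn fun j : Fin (half D) => X hD (rootOf hD b (half D + j)) (t j)).prod

theorem sideR_map (hD : Good D) (b : Bool) (f : R →+* S) (t : Fin (half D) → R) :
    Matrix.GeneralLinearGroup.map f (sideR hD b t) = sideR hD b (f ∘ t) := by
  rw [sideR, map_list_prod, List.map_ofFn]
  simp only [Function.comp_def, X_map]
  rfl

theorem sideR_eq_prodFrom {F : Type*} [Field F] (hD : Good D) (b : Bool) (t : ℕ → F) :
    sideR hD b (fun j => t (half D + j)) = prodFrom hD b t (half D) (half D) := by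
  rw [sideR, prodFrom]
  congr 1
  rw [List.ofFn_eq_map, List.range'_eq_map_range, ← List.map_coe_finRange_eq_range, List.map_map,
    List.map_map]
  rfl

/-- The word part `x_{i}(t) n_i ⋯` of a cell. -/
noncomputable def wordR (hW : GoodWeyl D) : (ω : List (Fin D.rank)) → (Fin ω.length → R) → GL D.Idx R
  | [], _ => 1
  | i :: ω, t => X hW.good (pRoot hW i) (t 0) * nR hW i * wordR hW ω fun j => t j.succ

theorem wordR_map (hW : GoodWeyl D) (f : R →+* S) :
    ∀ (ω : List (Fin D.rank)) (t : Fin ω.length → R),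
      Matrix.GeneralLinearGroup.map f (wordR hW ω t) = wordR hW ω (f ∘ t)
  | [], _ => by simp [wordR]
  | i :: ω, t => by
    simp only [wordR, map_mul, X_map, nR_map, wordR_map hW f ω]
    rfl

/-- The parameters of the cell of a word. -/
abbrev Par (D : ChevalleyDatum) (n : ℕ) : Type := Fin n ⊕ Fin (half D) ⊕ Fin D.rank

/-- The torus coordinate of a parameter. -/
abbrev tp {n : ℕ} (k : Fin D.rank) : Par D n := Sum.inr (Sum.inr k)

/-- The parametrisation of the cell of a word. -/
noncomputable def cellR (hW : GoodWeyl D) (ω : List (Fin D.rank)) (v : Par D ω.length → R)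
    (c : Fin D.rank → Rˣ) : GL D.Idx R :=
  wordR hW ω (fun j => v (Sum.inl j)) * sideR hW.good false (fun j => v (Sum.inr (Sum.inl j))) *
    torR D c

theorem cellR_map (hW : GoodWeyl D) (f : R →+* S) (ω : List (Fin D.rank))
    (v : Par D ω.length → R) (c : Fin D.rank → Rˣ) :
    Matrix.GeneralLinearGroup.map f (cellR hW ω v c) =
      cellR hW ω (f ∘ v) fun k => Units.map (f : R →* S) (c k) := by
  rw [cellR, map_mul, map_mul, wordR_map, sideR_map, torR_map]
  rfl

/-- The parametrisation `U⁻ U H`. -/
noncomputable def bigR (hW : GoodWeyl D) (v : Par D (half D) → R) (c : Fin D.rank → Rˣ) :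
    GL D.Idx R :=
  sideR hW.good true (fun j => v (Sum.inl j)) *
    sideR hW.good false (fun j => v (Sum.inr (Sum.inl j))) * torR D c

theorem bigR_map (hW : GoodWeyl D) (f : R →+* S) (v : Par D (half D) → R) (c : Fin D.rank → Rˣ) :
    Matrix.GeneralLinearGroup.map f (bigR hW v c) =
      bigR hW (f ∘ v) fun k => Units.map (f : R →* S) (c k) := by
  rw [bigR, map_mul, map_mul, sideR_map, sideR_map, torR_map]
  rfl

/-! ### Over a field -/

variable {F : Type*} [Field F]

theorem sideR_mem (hD : Good D) (b : Bool) (t : Fin (half D) → F) :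
    sideR hD b t ∈ uGe hD F b (half D) := by
  refine Subgroup.list_prod_mem _ fun x hx => ?_
  obtain ⟨j, rfl⟩ := List.mem_ofFn.1 hx
  have := key_rootOf (b := b) hD (show half D + (j : ℕ) < D.nroots by
    have := hD.two_half; have := j.2; omega)
  exact X_mem_uGe hD (by omega) (by omega) _

theorem sideR_injective (hU : GoodUni D) (b : Bool) :
    Function.Injective (sideR hU.good b : (Fin (half D) → F) → GL D.Idx F) := by
  intro s t h
  let e : (Fin (half D) → F) → ℕ → F := fun f j =>
    if h : j - half D < half D then f ⟨j - half D, h⟩ else 0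
  have he : ∀ f, (fun j : Fin (half D) => e f (half D + j)) = f := fun f => by
    funext j; simp [e]
  rw [← he s, ← he t, sideR_eq_prodFrom, sideR_eq_prodFrom] at h
  have hh := hU.good.two_half
  funext j
  have := prodFrom_injective hU (half D) (half D) le_rfl (by omega) _ _ h (half D + j) (by omega)
    (by omega)
  simpa [e] using this

theorem exists_sideR (hC : GoodComm D) (b : Bool) {g : GL D.Idx F}
    (hg : g ∈ uGe hC.good F b (half D)) : ∃ t, sideR hC.good b t = g := by
  have hh := hC.good.two_half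
  obtain ⟨t, ht⟩ := exists_prodFrom hC (half D) (half D) le_rfl (by omega) g hg
  exact ⟨_, (sideR_eq_prodFrom hC.good b t).trans ht⟩

theorem torR_mem_group (hW : GoodWeyl D) (c : Fin D.rank → Fˣ) : torR D c ∈ D.group F := by
  rw [torR_eq_torC]
  refine diag_le_group hW ?_
  rw [diagonalSubgroup_eq_range hW]
  exact ⟨c, rfl⟩

theorem sideR_mem_group (hD : Good D) (b : Bool) (t : Fin (half D) → F) :
    sideR hD b t ∈ D.group F :=
  Subgroup.list_prod_mem _ fun x hx => by
    obtain ⟨j, rfl⟩ := List.mem_ofFn.1 hx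
    exact X_mem_group _ _ _

theorem wordR_mem_group (hW : GoodWeyl D) :
    ∀ (ω : List (Fin D.rank)) (t : Fin ω.length → F), wordR hW ω t ∈ D.group F
  | [], _ => one_mem _
  | i :: ω, _ => mul_mem (mul_mem (X_mem_group _ _ _) (nR_mem_group hW i)) (wordR_mem_group hW ω _)

theorem cellR_mem_group (hW : GoodWeyl D) (ω : List (Fin D.rank)) (v : Par D ω.length → F)
    (c : Fin D.rank → Fˣ) : cellR hW ω v c ∈ D.group F :=
  mul_mem (mul_mem (wordR_mem_group hW ω _) (sideR_mem_group _ _ _)) (torR_mem_group hW c)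

theorem bigR_mem_group (hW : GoodWeyl D) (v : Par D (half D) → F) (c : Fin D.rank → Fˣ) :
    bigR hW v c ∈ D.group F :=
  mul_mem (mul_mem (sideR_mem_group _ _ _) (sideR_mem_group _ _ _)) (torR_mem_group hW c)

variable {C : Weyl.Cert D.rank} {M : CoxeterMatrix (Fin D.rank)} {T : Weyl.RootTable}

/-- A chosen reduced word. -/
noncomputable def redWord (w : M.Group) : List (Fin D.rank) :=
  (M.toCoxeterSystem.exists_isReduced w).choose

theorem redWord_spec (w : M.Group) :
    M.toCoxeterSystem.length (M.toCoxeterSystem.wordProd (redWord w)) = (redWord w).length ∧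
      M.toCoxeterSystem.wordProd (redWord w) = w := by
  obtain ⟨h1, h2⟩ := (M.toCoxeterSystem.exists_isReduced w).choose_spec
  exact ⟨h1, h2.symm⟩

theorem length_redWord (w : M.Group) : (redWord w).length = M.toCoxeterSystem.length w := by
  obtain ⟨h1, h2⟩ := redWord_spec w
  rw [← h1, h2]

/-- Every element of the cell of a reduced word is in the image of its parametrisation. -/
theorem exists_wordR (hW : GoodWeyl D) (h : Weyl.RootGood C M T) :
    ∀ (ω : List (Fin D.rank)),
      M.toCoxeterSystem.length (M.toCoxeterSystem.wordProd ω) = ω.length →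
      ∀ g ∈ cell hW h F (M.toCoxeterSystem.wordProd ω),
        ∃ t, ∃ b ∈ D.borelSubgroup F, g = wordR hW ω t * b
  | [], _, g, hg => by
    rw [CoxeterSystem.wordProd_nil, cell_one hW h] at hg
    exact ⟨Fin.elim0, g, hg, by simp [wordR]⟩
  | i :: ω, hred, g, hg => by
    rw [CoxeterSystem.wordProd_cons, CoxeterMatrix.toCoxeterSystem_simple] at hg hred
    set w := M.toCoxeterSystem.wordProd ω with hw
    have hl : M.toCoxeterSystem.length w = ω.length := by
      have h1 := M.toCoxeterSystem.length_wordProd_le ω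
      have h2 := M.toCoxeterSystem.length_simple_mul w i
      rw [← hw] at h1
      rw [CoxeterMatrix.toCoxeterSystem_simple] at h2
      simp only [List.length_cons] at hred
      omega
    obtain ⟨b, hb, b', hb', rfl⟩ := hg
    obtain ⟨k, hk, e⟩ := exists_nR_mul_nW (F := F) hW h i w
    obtain ⟨t₀, c, hc, -, hc2⟩ := exists_borel_split hW i (inv_mem hb)
    have hmem : (nR hW i)⁻¹ * c⁻¹ * nR hW i * nW hW h F w * (k⁻¹ * b') ∈ cell hW h F w := by
      refine cell_mul_borel_mem hW h (borel_mul_mem_cell hW h ?_ (nW_mem_cell hW h w))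
        (mul_mem (inv_mem (diag_le_borel D hk)) hb')
      have := inv_mem hc2
      rwa [show ((nR hW i)⁻¹ * c * nR hW i)⁻¹ = (nR hW i)⁻¹ * c⁻¹ * nR hW i by group] at this
    obtain ⟨t, b'', hb'', e'⟩ := exists_wordR hW h ω hl _ hmem
    refine ⟨Fin.cons (-t₀) t, b'', hb'', ?_⟩
    simp only [wordR, Fin.cons_zero, Fin.cons_succ]
    rw [mul_assoc _ (wordR hW ω t), ← e', ← X_inv, show b = (X hW.good (pRoot hW i) t₀)⁻¹ * c⁻¹ from
      by rw [← mul_inv_rev, ← hc, inv_inv],
      show nW hW h F (M.simple i * w) = nR hW i * nW hW h F w * k⁻¹ by rw [e]; group]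
    group

theorem exists_cellR (hW : GoodWeyl D) (h : Weyl.RootGood C M T) {g : GL D.Idx F}
    (hg : g ∈ D.group F) :
    ∃ (w : M.Group) (v : Par D (redWord (M := M) w).length → F) (c : Fin D.rank → Fˣ),
      (∀ k, v (tp k) = c k) ∧ g = cellR hW (redWord w) v c := by
  obtain ⟨w, hw⟩ := exists_mem_cell hW h hg
  obtain ⟨hω, hprod⟩ := redWord_spec (M := M) w
  rw [← hprod] at hw
  obtain ⟨t, b, hb, rfl⟩ := exists_wordR hW h _ hω g hw
  obtain ⟨u, hu, k, hk, rfl⟩ := (mem_borel_iff hW).1 hb
  rw [posUnipotent_eq hW.good] at hu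
  obtain ⟨v, rfl⟩ := exists_sideR hW.toGoodComm false hu
  rw [diagonalSubgroup_eq_range hW] at hk
  obtain ⟨c, rfl⟩ := hk
  refine ⟨w, Sum.elim t (Sum.elim v fun k => (c k : F)), c, fun k => rfl, ?_⟩
  rw [cellR, torR_eq_torC, mul_assoc]
  rfl

open scoped Classical in
theorem card_pos (hW : GoodWeyl D) (h : Weyl.RootGood C M T) :
    (Finset.univ.filter fun r : Root D => Weyl.PosIdx r).card = half D := by
  simp only [posIdx_iff hW.good h]
  have hh := hW.good.two_half
  rw [← Finset.card_image_of_injective _ (Fin.val_injective (n := D.nroots)),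
    show (Finset.univ.filter fun r : Root D => half D ≤ (r : ℕ)).image Fin.val =
      Finset.Ico (half D) D.nroots from ?_, Nat.card_Ico]
  · omega
  ext j
  simp only [Finset.mem_image, Finset.mem_filter, Finset.mem_univ, true_and, Finset.mem_Ico]
  exact ⟨fun ⟨r, hr, e⟩ => e ▸ ⟨hr, r.isLt⟩, fun hj => ⟨⟨j, hj.2⟩, hj.1, rfl⟩⟩

/-- Reduced words have at most as many letters as there are positive roots. -/
theorem length_le_half (hW : GoodWeyl D) (h : Weyl.RootGood C M T) (w : M.Group) :
    M.toCoxeterSystem.length w ≤ half D := by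
  rw [h.length_eq_card_invSet, ← card_pos hW h]
  exact Finset.card_le_card fun r hr => Finset.mem_filter.2
    ⟨Finset.mem_univ _, (h.mem_invSet.1 hr).1⟩

/-- The element of largest length is unique. -/
theorem eq_of_length_eq_half (hW : GoodWeyl D) (h : Weyl.RootGood C M T) {v w : M.Group}
    (hv : M.toCoxeterSystem.length v = half D) (hw : M.toCoxeterSystem.length w = half D) :
    v = w := by
  classical
  have key : ∀ u : M.Group, M.toCoxeterSystem.length u = half D →
      ∀ r, Weyl.PosIdx r → ¬ Weyl.PosIdx (h.rootPerm u r) := by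
    intro u hu r hr
    rw [h.length_eq_card_invSet, ← card_pos hW h] at hu
    have he := Finset.eq_of_subset_of_card_le
      (fun s hs => Finset.mem_filter.2 ⟨Finset.mem_univ s, (h.mem_invSet.1 hs).1⟩) hu.ge
    have : r ∈ h.invSet u := by rw [he]; exact Finset.mem_filter.2 ⟨Finset.mem_univ r, hr⟩
    exact (h.mem_invSet.1 this).2
  symm
  rw [← mul_inv_eq_one]
  refine h.eq_one_of_invSet_empty (Finset.eq_empty_of_forall_notMem fun r hr => ?_)
  obtain ⟨hr, hr'⟩ := h.mem_invSet.1 hr
  apply hr'
  rw [map_mul, Equiv.Perm.mul_apply]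
  set s := h.rootPerm v⁻¹ r
  have hs : h.rootPerm v s = r := by
    show (h.rootPerm v * h.rootPerm v⁻¹) r = r
    rw [← map_mul, mul_inv_cancel, map_one]
    rfl
  have hneg : ¬ Weyl.PosIdx s := fun hp => key v hv s hp (hs.symm ▸ hr)
  have := key w hw _ ((h.pos_negRoot s).2 hneg)
  rwa [h.rootPerm_neg, h.pos_negRoot, not_not] at this

end CfsgLib.LangChev
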